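import Cfsg.Agent.H0.QHS.D
set_option maxRecDepth 100000
set_option Elab.async false
set_option linter.unusedSectionVars false
namespace H0.QHS
open H0 BN 
theorem defs_ok : DefsOK R.p defs 11 := defsOK_of_chk c24
universe u
variable {G : Type u} [Group G] [Finite G] (m0 : Model G) (h0 : m0.R = H6M.MHS.R)
noncomputable def m : Model G := m0.ext (lg := nat_lit 7) (N := nat_lit 128) (l := H6M.MHS.nl) h0 nl nl_ok 11 rfl defs defs_ok (by decide +kernel)
theorem mR : (m m0 h0).R = R := rfl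
variable (hb : m0.pst [3, 18, 2, 1, 0] = ⊥) (hc : Nat.card G = 44352000)
include h0 hb hc
theorem base : (m m0 h0).pst [3, 18, 2, 1, 0] = ⊥ := hb
omit hb hc in
theorem ch2_ok : (m m0 h0).ChainOK ch2 [] := ((m m0 h0).chain_cons [0, 1, 2] (Model.via _ (mR m0 h0) (fun R => Model.fixP R [] [[11], [12], [18]]) c4) (Model.via _ (mR m0 h0) (fun R => Model.growP R [[11], [12], [18]] [0, 1, 2] 0 8) c5) ((m m0 h0).chain_cons [0, 1, 2, 3] (Model.via _ (mR m0 h0) (fun R => Model.fixP R [0] [[12, 15], [14], [17, 18], [19]]) c2) (Model.via _ (mR m0 h0) (fun R => Model.growP R [[12, 15], [14], [17, 18], [19]] [0, 1, 2, 3] 1 16) c3) ((m m0 h0).chain_cons [0, 1] (Model.via _ (mR m0 h0) (fun R => Model.fixP R [1, 0] [[13, 15, 17], [16, 18, 19]]) c0) (Model.via _ (mR m0 h0) (fun R => Model.growP R [[13, 15, 17], [16, 18, 19]] [0, 1] 2 4) c1) ((m m0 h0).chain_nil _))))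
theorem pb2 : PBound G (2 ^ (1 + 1)) :=
  (m m0 h0).pbound C2 11 (k := 86625) (K := 3) (e := 2) hc (lt_step_all (a := 0) (k := 68) (lt_zero_all _) ((m m0 h0).rules_of (base m0 h0 hb hc) (Model.via _ (mR m0 h0) (fun R => rulesB R [3, 18, 2, 1, 0] (fun i => sh 11 (C2.L i)) (fun i => sh 11 (C2.R i)) 0 68) c6))) (ch2_ok m0 h0) (by decide +kernel) tests2 (all_take_done (all_take_step (all_take_zero _ tests2) (allL_spec c7)) (by decide +kernel))
    av2 FS2 YS2 rows2 (all_take_done (all_take_step (all_take_zero _ rows2) (allL_spec c8)) (by decide +kernel)) c9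
omit hb hc in
theorem ch3_ok : (m m0 h0).ChainOK ch3 [] := ((m m0 h0).chain_cons [0, 1, 0, 1] (Model.via _ (mR m0 h0) (fun R => Model.fixP R [] [[23], [24]]) c10) (Model.via _ (mR m0 h0) (fun R => Model.growP R [[23], [24]] [0, 1, 0, 1] 2 9) c11) ((m m0 h0).chain_nil _))
theorem pb3 : PBound G (3 ^ (0 + 1)) :=
  (m m0 h0).pbound C3 23 (k := 4928000) (K := 2) (e := 1) hc (lt_step_all (a := 0) (k := 5) (lt_zero_all _) ((m m0 h0).rules_of (base m0 h0 hb hc) (Model.via _ (mR m0 h0) (fun R => rulesB R [3, 18, 2, 1, 0] (fun i => sh 23 (C3.L i)) (fun i => sh 23 (C3.R i)) 0 5) c12))) (ch3_ok m0 h0) (by decide +kernel) tests3 (all_take_done (all_take_step (all_take_zero _ tests3) (allL_spec c13)) (by decide +kernel))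
    av3 FS3 YS3 rows3 (all_take_done (all_take_step (all_take_zero _ rows3) (allL_spec c14)) (by decide +kernel)) c15
omit hb hc in
theorem ch5_ok : (m m0 h0).ChainOK ch5 [] := ((m m0 h0).chain_cons [0, 1, 2, 0, 0, 0, 0] (Model.via _ (mR m0 h0) (fun R => Model.fixP R [] [[26], [27], [28]]) c18) (Model.via _ (mR m0 h0) (fun R => Model.growP R [[26], [27], [28]] [0, 1, 2, 0, 0, 0, 0] 0 25) c19) ((m m0 h0).chain_cons [0, 0, 0, 0] (Model.via _ (mR m0 h0) (fun R => Model.fixP R [0] [[27, 28, 28]]) c16) (Model.via _ (mR m0 h0) (fun R => Model.growP R [[27, 28, 28]] [0, 0, 0, 0] 1 5) c17) ((m m0 h0).chain_nil _)))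
theorem pb5 : PBound G (5 ^ (0 + 1)) :=
  (m m0 h0).pbound C5 26 (k := 354816) (K := 2) (e := 1) hc (lt_step_all (a := 0) (k := 9) (lt_zero_all _) ((m m0 h0).rules_of (base m0 h0 hb hc) (Model.via _ (mR m0 h0) (fun R => rulesB R [3, 18, 2, 1, 0] (fun i => sh 26 (C5.L i)) (fun i => sh 26 (C5.R i)) 0 9) c20))) (ch5_ok m0 h0) (by decide +kernel) tests5 (all_take_done (all_take_step (all_take_zero _ tests5) (allL_spec c21)) (by decide +kernel))
    av5 FS5 YS5 rows5 (all_take_done (all_take_step (all_take_zero _ rows5) (allL_spec c22)) (by decide +kernel)) c23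
theorem bound (Γ : Type u) [Group Γ] [Finite Γ] (σ : Γ →* G) (hσ : Cfsg.IsStemExtension σ) : Nat.card σ.ker ∣ 2 :=
  card_ker_dvd (M := 11) (k := 9) (L := [2, 3, 5]) hc (by decide +kernel) (ex_bound (pb2 m0 h0 hb hc) (by decide) (ex_bound (pb3 m0 h0 hb hc) (by decide) (ex_bound (pb5 m0 h0 hb hc) (by decide) ex_bound_nil))) Γ σ hσ
end H0.QHS
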